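import Cfsg.Agent.FGS.CO.Defs
import Cfsg.Agent.INV.B2.Ext

/-!
# From a component to the situation of Baumann's lemma, without the hypothesis `Hy`
-/

set_option autoImplicit false
set_option linter.unusedSectionVars false
open Cfsg Subgroup CL.Th CL.MSS CL.Push CL.BHS CL.Dickson CL.Quad CL.B2
open scoped commutatorElement MatrixGroups

namespace CL.CO
variable {G : Type*} [Group G] [Finite G] {A H L R V : Subgroup G} {𝓛 : Set (Subgroup G)}

theorem off_am (hsyl : SylIn 2 R H) (hV : IsElementaryAbelian 2 V) (VR : V ≤ R) (hA : A ∈ Am R) :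
    Off H V A := by
  refine ⟨hA.1.trans hsyl.le, (elemAb_commutator_eq_bot hA.2.1).le.trans bot_le,
    fun a ha => by rw [(Th.elemAb_iff.1 hA.2.1).2 a ha]; exact one_mem _, ?_⟩
  rw [mul_comm, ← PN.card_sup_mul_card_inf (cent_le_norm inf_le_right)]
  exact Nat.mul_le_mul (hA.2.2 _ (sup_le (inf_le_left.trans hA.1) VR)
    (Th.elemAb_sup (elemAb_inf_left hA.2.1 _) hV inf_le_right))
    (card_le_of_le (le_inf inf_le_right
      ((inf_le_left.trans inf_le_left).trans (Th.elemAb_le_centralizer hA.2.1))))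

/-- The proof of `CL.B2.extB`. -/
theorem extB' (hsyl : SylIn 2 R H) (s : LS H V 𝓛) (OV : R ⊓ 𝐂 V = O2 H)
    (CR : ∀ T : Subgroup G, IsPGroup 2 T → T ≤ H → ⁅H ⊓ 𝐂 V, T⁆ ≤ O2 H) (CN : H ⊓ 𝐂 V ≤ 𝐍 R)
    (VR : V ≤ R) (hL : L ∈ 𝓛) (hA : A ∈ Am R) (hn : ¬ A ⊓ L ≤ 𝐂 V) :
    ∃ P₀ R' : Subgroup G, P₀ ≤ H ∧ R' ≤ R ∧ Bm R ≤ R' ∧ PB P₀ R' ⁅V, L⁆ ∧
      L ≤ P₀ ⊔ (H ⊓ 𝐂 V) := by
  have offs : ∀ A, A ∈ Am R → Off H V A := fun A => off_am hsyl s.elem VR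
  have off := offs A hA
  have cp := s.cp L hL
  have pR := hsyl.pgroup
  have RH := hsyl.le
  obtain ⟨F, i1, i2, i3, ρ, ψ₀, n, onto, ker⟩ := cp.model
  obtain ⟨r, ψ, U, m₀, hU⟩ := exists_gm n onto ker pR
  have m := m₀.comm
  have WV : ⁅V, L⁆ ≤ V := commutator_le_left_of_normalizes m₀.nW
  have per : ⁅V, L⁆ ≤ ⁅⁅V, L⁆, L⁆ := commutator_le.2 fun v hv g hg => by
    obtain ⟨y, hy, e⟩ := m.surj (ψ v)
    rw [comm_of_cent ((m₀.ψ_eq_iff (WV hy) hv).1 e g hg)]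
    exact commutator_mem_commutator hy hg
  have mn : ∀ {g z}, g ∈ H → z ∈ ⁅V, L⁆ → z ∉ 𝐂 L → g * z = z * g → g ∈ 𝐍 L := s.mem_norm hL
  have is := fun A hA => s.le_inf_sup (offs A hA) hL
  have nW : H ⊓ 𝐍 L ≤ 𝐍 (⁅V, L⁆ : Subgroup G) :=
    CL.MSS.le_normalizer_commutator (inf_le_left.trans s.norm) inf_le_right
  generalize ⁅V, L⁆ = W at *
  have CW : 𝐂 V ≤ 𝐂 W := centralizer_le WV
  have elW := elemAb_mono s.elem WV
  have AU : A ⊓ L ≤ U := (inf_le_inf_right _ hA.1).trans hU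
  have nC : L ≤ 𝐍 (H ⊓ 𝐂 V : Subgroup G) := cp.le.trans
    (CL.MSS.le_normalizer_inf le_normalizer (CL.MSS.le_normalizer_centralizer s.norm))
  have hu : ∀ t, ∃ a ∈ A ⊓ L, r a = u t := fun t => by
    have k := (s.full A off L hL).resolve_left fun e =>
      hn ((le_inf (inf_le_left.trans le_sup_left) inf_le_right).trans e)
    rw [cpt_eq cp s.norm off.le, ← inf_relIndex_left V, n.card, ← m.q_eq,
      Nat.pow_left_inj two_ne_zero] at k
    have le : (A ⊓ L) ⊔ (H ⊓ 𝐂 V) ≤ U := sup_le AU fun x hx => m.mem_B (cp.ge hx) hx.2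
    have k1 := PN.card_inf_mul_relIndex (𝐂 V) U
    rw [← k, show 𝐂 V ⊓ U = 𝐂 V ⊓ ((A ⊓ L) ⊔ (H ⊓ 𝐂 V)) from le_antisymm (le_inf inf_le_left
      ((le_inf (inf_le_right.trans (m.le.trans cp.le)) inf_le_left).trans le_sup_right))
      (inf_le_inf_left _ le), PN.card_inf_mul_relIndex] at k1
    obtain ⟨b, hb, e⟩ := m.exists_u t
    obtain ⟨a, ha, d, hd, rfl⟩ := (mem_sup_of_normalizes_right (inf_le_right.trans nC)).1
      ((eq_of_le_of_card_ge le k1.ge).ge hb)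
    exact ⟨a, ha, by rw [← e, m.mul _ ha.2 _ (cp.ge hd), (m.ker d (cp.ge hd)).2 hd.2, mul_one]⟩
  obtain ⟨z, hz, z0⟩ := m.surj ![1, 0]
  have zL : z ∉ 𝐂 L := fun e => e0_ne (z0.symm.trans ((m.zero z hz).2 e))
  have two : ∀ g ∈ H, g ∈ 𝐍 R → ∀ k : ℕ, g ^ 2 ^ k = 1 → g ∈ R := fun g h1 h2 k h3 =>
    hsyl.le_of_normalizes (isPGroup_zpowers h3) (zpowers_le.2 h1) (zpowers_le.2 h2) (mem_zpowers g)
  have nCW : L ≤ 𝐍 (𝐂 W) := CL.MSS.le_normalizer_centralizer m.nW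
  have LQ : L ≤ 𝐍 (R ⊓ 𝐂 W : Subgroup G) := le_normalizer_of_cj_le fun x hx =>
    cj_le_iff_forall.2 fun y hy => by
      have a := conj_mem_of_normalizes nCW hx hy.2
      have b : x * y * x⁻¹ * y⁻¹ ∈ L := by
        simpa only [mul_assoc] using mul_mem hx
          (conj_mem_of_mem_normalizer (mn (RH hy.1) hz zL (hy.2 z hz).symm) (inv_mem hx))
      have d := CN ⟨cp.le b, m.mem_K_of_cent b (mul_mem a (inv_mem (mem_inf.1 hy).2))⟩
      obtain ⟨k, hk⟩ := isPGroup_iff_forall_mem.1 pR y hy.1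
      exact ⟨two _ (mul_mem (mul_mem (cp.le hx) (RH hy.1)) (inv_mem (cp.le hx)))
        ((mul_mem_cancel_right (inv_mem (le_normalizer (mem_inf.1 hy).1))).1 d) k
        (by rw [conj_pow, hk]; simp), a⟩
  have OQ : O2 H ≤ R ⊓ 𝐂 W := OV.ge.trans (inf_le_inf_left _ CW)
  obtain ⟨x, hx, hx'⟩ := m.exists_x
  have on := m.onto_sup inf_le_right hu hx hx'
  have L0 : (A ⊓ L) ⊔ x •ᶜ (A ⊓ L) ≤ L := sup_le inf_le_right (cj_le_of_mem inf_le_right hx)
  have AR : A ⊓ L ≤ R := inf_le_left.trans hA.1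
  set Q := R ⊓ 𝐂 W with hQ
  set P := (A ⊓ L) ⊔ x •ᶜ (A ⊓ L) ⊔ Q with hP
  have R'R : (A ⊓ L) ⊔ Q ≤ R := sup_le AR inf_le_left
  have R'P : (A ⊓ L) ⊔ Q ≤ P := sup_le_sup_right le_sup_left _
  have PH : P ≤ H := sup_le (L0.trans cp.le) (inf_le_left.trans RH)
  have PQ : P ≤ 𝐍 Q := sup_le (L0.trans LQ) le_normalizer
  have dec : ∀ g ∈ P, ∃ l ∈ L, l⁻¹ * g ∈ Q := fun g hg => by
    obtain ⟨l, hl, y, hy, rfl⟩ := (mem_sup_of_normalizes_right (L0.trans LQ)).1 hg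
    exact ⟨l, L0 hl, by simpa using hy⟩
  obtain ⟨r', B', m', hr⟩ := m.ext_grp (fun x hx => CW hx) (fun g hg => (dec g hg).imp
    fun l hl => ⟨hl.1, hl.2.2⟩) fun M => (on M).imp fun y hy => ⟨⟨L0 hy.1, mem_sup_left hy.1⟩, hy.2⟩
  have kC : ∀ g ∈ P, g ∈ 𝐂 W → g ∈ (H ⊓ 𝐂 V) ⊔ Q := fun g hg e => by
    obtain ⟨l, hl, a⟩ := dec g hg
    have : l ∈ 𝐂 W := inv_mem_iff.1 ((mul_mem_cancel_right e).1 (mem_inf.1 a).2)
    simpa only [mul_inv_cancel_left] using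
      mul_mem (mem_sup_left (mem_inf.2 ⟨cp.le hl, m.mem_K_of_cent hl this⟩)) (mem_sup_right a)
  have kQ : ∀ g ∈ P, g ∈ 𝐂 W → g ∈ Q := fun g hg e => by
    refine oddKer m'.ρ (pR.to_le R'R) (le_antisymm (ncl_le_self R'P) (sup_le (sup_le
      (le_sup_left.trans (le_ncl _ _)) ?_) (le_sup_right.trans (le_ncl _ _)))) R'P le_sup_right PQ
      (fun g hg y hy => ?_) (fun g hg => ?_) (fun g hg => (m'.ker g g.2).2 hg.2) ⟨g, hg⟩
      ((m'.ker g hg).2 e)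
    · obtain ⟨l, hl, e⟩ := on (r x)
      have k := mul_mem (inv_mem (L0 hl)) hx
      refine le_trans ?_ (cj_le_ncl _ (mem_sup_left hl))
      rw [← mul_inv_cancel_left l x, cj_mul]
      refine cj_mono l (cj_le_iff_forall.2 fun a ha => ?_)
      simpa only [commutatorElement_def, inv_mul_cancel_right] using mul_mem (mem_sup_right (OQ (CR R pR RH
        (commutator_mem_commutator (mem_inf.2 ⟨cp.le k, (m.r_eq_iff (L0 hl) hx).1 e⟩) (AR ha)))))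
        (mem_sup_left ha)
    · have pA := pR.to_le AR
      exact sup_commutator_le_of_normalizes (cp.ge.trans LQ) le_normalizer
        (commutator_sup_le_of_normalizes (L0.trans LQ) le_normalizer (commutator_sup_le_of_normalizes
          (inf_le_right.trans LQ) ((le_sup_right.trans L0).trans LQ) ((CR _ pA (AR.trans RH)).trans OQ)
          ((CR _ (isPGroup_cj x pA) ((le_sup_right.trans L0).trans cp.le)).trans OQ))
          ((CR _ pR.to_inf_left (inf_le_left.trans RH)).trans OQ))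
        (commutator_le_left_of_normalizes PQ)
        (commutator_mem_commutator (kC g g.2 ((m'.ker g g.2).1 hg)) hy)
    · obtain ⟨k, n, h1, h2⟩ := Nat.exists_eq_two_pow_mul_odd (orderOf_pos (g : G)).ne'
      have a := (m'.ker g g.2).1 hg
      exact ⟨n, h1, two _ (pow_mem (PH g.2) n) (pow_mem (sup_le CN (inf_le_left.trans le_normalizer)
        (kC g g.2 a)) n) k (by rw [← pow_mul, mul_comm, ← h2, pow_orderOf_eq_one]), pow_mem a n⟩
  have AP : A ⊓ L ≤ P := le_sup_left.trans R'P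
  obtain rfl : B' = (A ⊓ L) ⊔ Q := le_antisymm (fun g hg => by
    obtain ⟨a, ha, e⟩ := hu (r' g 0 1)
    rw [← m'.eq_u hg, ← hr a ha.2 (AP ha), m'.r_eq_iff (AP ha) (m'.le hg)] at e
    simpa only [mul_inv_cancel_left] using mul_mem (mem_sup_left ha)
      (mem_sup_right (kQ _ (mul_mem (inv_mem (AP ha)) (m'.le hg)) e)))
    (sup_le (fun a ha => (m'.fix a (AP ha)).2 (by
      rw [hr a ha.2 (AP ha)]; exact (m.fix a ha.2).1 (AU ha)))
      fun y hy => m'.mem_B (mem_sup_right hy) hy.2)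
  have m'' : GM F P Q ((A ⊓ L) ⊔ Q) W r' ψ := ⟨m'.le, m'.nW, m'.mul, m'.onto,
    fun g hg => (m'.ker g hg).trans ⟨kQ g hg, fun e => e.2⟩, m'.fix, m'.add, m'.zero, m'.surj, m'.act⟩
  have syl := m''.syl (pR.to_le R'R)
  have eQ : O2 P = Q := le_antisymm (m''.O2_le syl) (le_oP pR.to_inf_left le_sup_right PQ)
  have WQ : W ≤ Q ⊓ 𝐂 Q :=
    le_inf (le_inf (WV.trans VR) (Th.elemAb_le_centralizer elW)) (cent_symm inf_le_right)
  have RL : R ⊓ L ≤ (A ⊓ L) ⊔ Q := fun b hb => by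
    obtain ⟨a, ha, e⟩ := hu (r b 0 1)
    rw [← m.eq_u (hU hb), m.r_eq_iff ha.2 hb.2] at e
    simpa only [mul_inv_cancel_left] using mul_mem (mem_sup_left ha)
      (mem_sup_right (mem_inf.2 ⟨mul_mem (inv_mem (AR ha)) (mem_inf.1 hb).1, CW e⟩))
  have JR : Jt R ≤ (A ⊓ L) ⊔ Q := thompsonSubgroupOf_le_iff.2 fun A' hA' => (is A' hA').trans
    (sup_le ((inf_le_inf_right _ hA'.1).trans RL) ((inf_le_inf_right _ hA'.1).trans le_sup_right))
  have hA' := mem_maxElemAbIn_of_le hA ((le_thompsonSubgroupOf hA).trans JR) R'R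
  have nA : ¬ A ≤ Q := fun e => hn fun a ha => m.mem_K_of_cent ha.2 (e ha.1).2
  have Zc := m''.W1_cent elW WQ le_sup_right PQ hA' nA
  refine ⟨P, _, PH, R'R, fun b hb => ?_, ⟨syl, elW, eQ ▸ WQ, ⟨F, i1, i2, i3, m''.ρ, ψ, m''.natD,
    m''.ρ_onto, fun g => by rw [eQ]; exact m''.ker g g.2⟩, fun e => nA ((le_thompsonSubgroupOf hA').trans
      (e.trans eQ.le))⟩, fun g hg => ?_⟩
  · have bz : ∀ y ∈ m.W1, y * b = b * y := fun y hy => hb.2 y (mem_oz_Jt (VR (WV hy.1))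
      ((pow_two y).symm.trans ((Th.elemAb_iff.1 elW).2 y hy.1)) (centralizer_le JR (Zc hy)))
    have bL := mn (RH hb.1) hz zL (bz z ⟨hz, by rw [z0]; rfl⟩).symm
    have bW := nW ⟨RH hb.1, bL⟩
    obtain ⟨k, hk⟩ := isPGroup_iff_forall_mem.1 pR b hb.1
    obtain ⟨t, ht⟩ := m.act_u bL bW hk bz
    obtain ⟨a, ha, e⟩ := hu t
    have := m.cent_of_triv (fun x hx => CW hx) per (mul_mem (inv_mem (le_normalizer ha.2)) bL)
      (mul_mem (inv_mem (m.nW ha.2)) bW) fun v hv => by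
        rw [show a⁻¹ * b * v * (a⁻¹ * b)⁻¹ = a⁻¹ * (b * v * b⁻¹) * a⁻¹⁻¹ by group,
          m.act _ (inv_mem ha.2) _ (conj_mem_of_mem_normalizer bW hv), ht v hv, m.r_inv ha.2, e,
          inv_smul_smul]
    simpa only [mul_inv_cancel_left] using mul_mem (mem_sup_left ha)
      (mem_sup_right (mem_inf.2 ⟨mul_mem (inv_mem (AR ha)) (mem_inf.1 hb).1, this⟩))
  · obtain ⟨l, hl, e⟩ := on (r g)
    simpa only [mul_inv_cancel_left] using mul_mem (mem_sup_left (mem_sup_left hl)) (mem_sup_right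
      (mem_inf.2 ⟨cp.le (mul_mem (inv_mem (L0 hl)) hg), (m.r_eq_iff (L0 hl) hg).1 e⟩))

end CL.CO
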